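import Cfsg.Agent.Lib.Spor.HSType.Cert.H222.Part0
import Cfsg.Agent.Lib.Spor.HSType.Cert.H222.Part1
import Cfsg.Agent.Lib.Spor.HSType.Cert.H222.Part2

/-!
An excluded extension of the centralizer, case 2 2 2: the assembled checks.
-/

set_option autoImplicit false

namespace CfsgLib.Spor.HSType.Cert.H222

open CfsgLib.Spor.TC

theorem steps_ok : cert.SStepsOK 0 6121 :=
  ((steps0.append _ steps2500).append _ steps5000)

set_option maxRecDepth 100000 in
theorem trace : cert.sTraceOK 6121 target 0x2fd200001 = true := by decide +kernel

end CfsgLib.Spor.HSType.Cert.H222
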